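import Mathlib
import Cfsg.Prelude.Def_Characters
import Cfsg.Agent.Characters.Core

/-!
# S4829: the decomposition of a weighted permutation character (helper104)

`wtC A g = ∑ ω, A ω (g • ω)` for an integer matrix `A` invariant under `G`.

`exists_dec` : `wtC A = ∑ μ ψ_μ`, with `μ` algebraic integers, `ψ_μ` characters whose sum is the permutation character.
-/

set_option autoImplicit false

open Cfsg Module

namespace Cfsg.Agent.H104.CY

universe u v

variable {G : Type u} [Group G] {Ω : Type v} [Fintype Ω] [MulAction G Ω]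

/-- the permutation representation -/
noncomputable def prep (G : Type u) [Group G] (Ω : Type v) [MulAction G Ω] : Representation ℂ G (Ω → ℂ) where
  toFun g := LinearMap.funLeft ℂ ℂ (fun ω => g⁻¹ • ω)
  map_one' := by
    ext f ω
    simp [LinearMap.funLeft_apply]
  map_mul' g h := by
    ext f ω
    simp [LinearMap.funLeft_apply, mul_smul]

omit [Fintype Ω] in
theorem prep_apply (g : G) (f : Ω → ℂ) (ω : Ω) : prep G Ω g f ω = f (g⁻¹ • ω) := rfl

/-- the weighted permutation character -/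
noncomputable def wtC (A : Ω → Ω → ℤ) (g : G) : ℂ := ((∑ ω, A ω (g • ω) : ℤ) : ℂ)

/-- the operator of `A` -/
noncomputable def opA (A : Ω → Ω → ℤ) : Module.End ℂ (Ω → ℂ) :=
  letI := Classical.decEq Ω
  Matrix.toLin' (Matrix.of fun x y => ((A x y : ℤ) : ℂ))

theorem opA_apply (A : Ω → Ω → ℤ) (f : Ω → ℂ) (x : Ω) : opA A f x = ∑ y, (A x y : ℂ) * f y := by
  classical
  unfold opA
  rw [Matrix.toLin'_apply]
  rfl

theorem opA_comm {A : Ω → Ω → ℤ} (hA : ∀ (g : G) x y, A (g • x) (g • y) = A x y) (g : G) :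
    Commute (opA A) (prep G Ω g) := by
  refine LinearMap.ext fun f => funext fun x => ?_
  show opA A (prep G Ω g f) x = prep G Ω g (opA A f) x
  rw [prep_apply, opA_apply, opA_apply, ← Equiv.sum_comp (MulAction.toPerm g)]
  refine Finset.sum_congr rfl fun y _ => ?_
  rw [prep_apply, MulAction.toPerm_apply, inv_smul_smul]
  congr 2
  rw [← hA g (g⁻¹ • x) y, smul_inv_smul]

theorem trace_eq (T : Module.End ℂ (Ω → ℂ)) :
    LinearMap.trace ℂ (Ω → ℂ) T = ∑ x, T (fun y => @ite ℂ (y = x) (Classical.dec _) 1 0) x := by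
  classical
  rw [LinearMap.trace_eq_matrix_trace ℂ (Pi.basisFun ℂ Ω), Matrix.trace]
  refine Finset.sum_congr rfl fun x _ => ?_
  rw [Matrix.diag_apply, LinearMap.toMatrix_apply, Pi.basisFun_repr, Pi.basisFun_apply]
  refine congrFun (congrArg (fun f => T f) (funext fun y => ?_)) x
  rw [Pi.single_apply]

theorem trace_wt (A : Ω → Ω → ℤ) (g : G) :
    LinearMap.trace ℂ (Ω → ℂ) (opA A ∘ₗ prep G Ω g) = wtC A g := by
  classical
  rw [trace_eq, wtC, Int.cast_sum]
  refine Finset.sum_congr rfl fun x _ => ?_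
  rw [LinearMap.comp_apply, opA_apply, Finset.sum_eq_single (g • x)]
  · rw [prep_apply, inv_smul_smul, if_pos rfl, mul_one]
  · intro y _ hy
    rw [prep_apply, if_neg, mul_zero]
    intro h
    exact hy (by rw [← h, smul_inv_smul])
  · intro h
    exact absurd (Finset.mem_univ _) h

/-- the eigenvalues of an integer matrix are integral -/
theorem isIntegral_of_ne (A : Ω → Ω → ℤ) {μ : ℂ} (h : (opA A).maxGenEigenspace μ ≠ ⊥) : IsIntegral ℤ μ := by
  classical
  have h1 : (opA A).HasEigenvalue μ := Module.End.HasUnifEigenvalue.lt zero_lt_one (show (opA A).HasUnifEigenvalue μ ⊤ from h)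
  set B : Matrix Ω Ω ℤ := Matrix.of A with hB
  have h2 : opA A = Matrix.toLin' (B.map (Int.castRingHom ℂ)) := by
    refine LinearMap.ext fun f => funext fun x => ?_
    rw [opA_apply, Matrix.toLin'_apply]
    rfl
  refine ⟨B.charpoly, B.charpoly_monic, ?_⟩
  have h3 : (LinearMap.charpoly (opA A)).IsRoot μ := by
    rw [← Module.End.hasEigenvalue_iff_isRoot_charpoly]
    exact h1
  rw [h2, Matrix.charpoly_toLin', Matrix.charpoly_map, Polynomial.IsRoot.def, Polynomial.eval_map] at h3
  exact h3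

/-- the representation on an invariant subspace -/
noncomputable def subRep (ρ : Representation ℂ G (Ω → ℂ)) (W : Submodule ℂ (Ω → ℂ))
    (h : ∀ g, Set.MapsTo (ρ g) W W) : Representation ℂ G W where
  toFun g := (ρ g).restrict (h g)
  map_one' := by
    refine LinearMap.ext fun x => Subtype.ext ?_
    show ρ 1 (x : Ω → ℂ) = x
    rw [map_one]
    rfl
  map_mul' g g' := by
    refine LinearMap.ext fun x => Subtype.ext ?_
    show ρ (g * g') (x : Ω → ℂ) = ρ g (ρ g' x)
    rw [map_mul]
    rfl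

/-- **the decomposition** -/
theorem exists_dec [Finite G] {A : Ω → Ω → ℤ} (hA : ∀ (g : G) x y, A (g • x) (g • y) = A x y) :
    ∃ (s : Finset ℂ) (ψ : ℂ → G → ℂ), (∀ μ ∈ s, IsIntegral ℤ μ) ∧ (∀ μ, IsCharacter G (ψ μ)) ∧
      (∀ g : G, wtC A g = ∑ μ ∈ s, μ * ψ μ g) ∧
      (∀ g : G, ((Nat.card {ω : Ω // g • ω = ω} : ℕ) : ℂ) = ∑ μ ∈ s, ψ μ g) := by
  classical
  set T := opA A with hT
  have hcm : ∀ (μ : ℂ) (g : G), Set.MapsTo (prep G Ω g) (T.maxGenEigenspace μ) (T.maxGenEigenspace μ) := fun μ g =>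
    T.mapsTo_maxGenEigenspace_of_comm (opA_comm hA g) μ
  have hfin : {μ | T.maxGenEigenspace μ ≠ ⊥}.Finite :=
    WellFoundedGT.finite_ne_bot_of_iSupIndep T.independent_maxGenEigenspace
  have hds : DirectSum.IsInternal fun μ => T.maxGenEigenspace μ :=
    DirectSum.isInternal_submodule_of_iSupIndep_of_iSup_eq_top T.independent_maxGenEigenspace
      (Module.End.iSup_maxGenEigenspace_eq_top T)
  refine ⟨hfin.toFinset, fun μ => (subRep (prep G Ω) (T.maxGenEigenspace μ) (hcm μ)).character, ?_, ?_, ?_, ?_⟩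
  · intro μ hμ
    exact isIntegral_of_ne A (hfin.mem_toFinset.1 hμ)
  · intro μ
    exact Characters.Core.isCharacter_of_rep _
  · intro g
    have h00 : LinearMap.trace ℂ (Ω → ℂ) (T ∘ₗ prep G Ω g) = LinearMap.trace ℂ (Ω → ℂ) (prep G Ω g ∘ₗ T) := by
      rw [show T ∘ₗ prep G Ω g = prep G Ω g ∘ₗ T from opA_comm hA g]
    rw [← trace_wt A g, ← hT, h00]
    have h1 : ∀ μ, Set.MapsTo (prep G Ω g ∘ₗ T) (T.maxGenEigenspace μ) (T.maxGenEigenspace μ) := fun μ =>
      (hcm μ g).comp (T.mapsTo_maxGenEigenspace_of_comm (Commute.refl _) μ)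
    rw [LinearMap.trace_eq_sum_trace_restrict' hds hfin h1]
    refine Finset.sum_congr rfl fun μ _ => ?_
    have hf' := T.mapsTo_maxGenEigenspace_of_comm (Commute.refl _) μ
    have h2 : Commute ((prep G Ω g).restrict (hcm μ g)) (T.restrict hf') :=
      LinearMap.restrict_commute (opA_comm hA g).symm _ _
    have h3 := T.isNilpotent_restrict_maxGenEigenspace_sub_algebraMap μ
    rw [LinearMap.restrict_comp hf' (hcm μ g), LinearMap.trace_comp_eq_mul_of_commute_of_isNilpotent μ h2 h3]
    rfl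
  · intro g
    have h0 : LinearMap.trace ℂ (Ω → ℂ) (prep G Ω g) = ((Nat.card {ω : Ω // g • ω = ω} : ℕ) : ℂ) := by
      rw [trace_eq, Nat.card_eq_fintype_card, Fintype.card_subtype, Finset.card_eq_sum_ones, Nat.cast_sum,
        Finset.sum_filter]
      refine Finset.sum_congr rfl fun x _ => ?_
      rw [prep_apply]
      by_cases hx : g • x = x
      · rw [if_pos hx, if_pos (by rw [inv_smul_eq_iff, hx]), Nat.cast_one]
      · rw [if_neg hx, if_neg (fun h => hx (by rw [inv_smul_eq_iff] at h; exact h.symm))]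
    rw [← h0, LinearMap.trace_eq_sum_trace_restrict' hds hfin (fun μ => hcm μ g)]
    rfl

end Cfsg.Agent.H104.CY
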