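import Cfsg.Agent.H104.CY.RelX
import Cfsg.Agent.H221.CY.Prep
import Cfsg.Agent.H221.CY.Three
import Cfsg.Agent.H188.CY.PolNoRel
import Cfsg.Agent.H556.CY.RelCount

/-!
# S4829, polar spaces: the weighted count on the totally singular `d`-spaces (helper104)

`d` is the order of `|F|` modulo `p` (`d = 1` allowed), `d ≤ K` and `p` does not divide the number of totally singular
`2 d`-spaces.  The relation `U ⊓ W = ⊥`, `U ⊥ W` on the totally singular `d`-spaces has valency prime to `p`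
(`not_dvd_rel`, helper556) and `¬ R U (a • U)` for `U` fixed by a Sylow subgroup `Q` and `a` centralizing `Q`
(`polInst_no_rel`, helper188).
-/

set_option autoImplicit false
set_option linter.unusedSectionVars false

open Module Subgroup Cfsg
open Cfsg.Agent.H2.Pol Cfsg.Agent.H674.BR Cfsg.Agent.H646.BR Cfsg.Agent.H145.BR Cfsg.Agent.H623.BR
open Cfsg.Agent.H31.BR Cfsg.Agent.H770.CY Cfsg.Agent.H221.CY

namespace Cfsg.Agent.H104.CY

universe u

variable {p : ℕ} [hp : Fact p.Prime] {F V : Type*} {G H : Type*} {S : Type u} [Field F] [Fintype F] [AddCommGroup V]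
  [Module F V] [FiniteDimensional F V] [Group G] [Group H] [Group S] {Φ : Pol F V} {ρ : G →* (V ≃ₗ[F] V)} {ι : H →* G}
  {ρ' : H →* (V ≃ₗ[F] V)} {π : H →* S} {w ε K : ℕ}

/-- the relation -/
def Rel (Φ : Pol F V) (d : ℕ) (U W : Φ.X d) : Prop := U.1 ⊓ W.1 = ⊥ ∧ Φ.Orth U.1 W.1

theorem rel_smul (I : PolInst p Φ ρ ι ρ' π w ε K) (h1 : 1 ≤ K) (h3 : 3 ≤ Nat.card (Φ.X 1))
    (hall : ∀ a : MulAut S, ∃ M : V ≃+ V, SemiAct Φ M ∧ Induces ρ' π M a) {d : ℕ} (a : MulAut S) (x y : Φ.X d) :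
    (letI := autAction I h1 h3 hall d; Rel Φ d (a • x) (a • y)) ↔ Rel Φ d x y := by
  have hf := lat_spec I hall a
  show (lat I hall a x.1 ⊓ lat I hall a y.1 = ⊥ ∧ Φ.Orth (lat I hall a x.1) (lat I hall a y.1)) ↔ _
  rw [hf.orth, ← OrderIso.map_inf, _root_.map_eq_bot_iff]
  rfl

/-- **the constituent** -/
theorem exists_polRel {M : Ideal AlgInt} (hMp : IsPModular p M) [Finite S] [IsSimpleGroup S]
    (hna : ¬ IsMulCommutative S) [Finite G] (I : PolInst p Φ ρ ι ρ' π w ε K) (h1 : 1 ≤ K)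
    (h3 : 3 ≤ Nat.card (Φ.X 1)) (hall : ∀ a : MulAut S, ∃ M : V ≃+ V, SemiAct Φ M ∧ Induces ρ' π M a)
    (hp2 : p ≠ 2) (hpq : ¬ p ∣ Nat.card F) {d : ℕ} (hd : orderOf ((Nat.card F : ℕ) : ZMod p) = d) (hd1 : 1 ≤ d)
    (hdK : d ≤ K) (h2 : ¬ p ∣ Nat.card (Φ.X (2 * d))) (X : Subgroup (MulAut S)) (hX : ∀ s : S, MulAut.conj s ∈ X)
    (hpX : ¬ p ∣ (MulAut.conj : S →* MulAut S).range.relIndex X) [Fintype X] :
    letI := autAction I h1 h3 hall d
    ∃ χ : IrrCharacter X, χ ∈ principalBlock M X ∧ (χ : X → ℂ) ≠ (fun _ => 1) ∧ ¬ p ∣ charDegree (χ : X → ℂ) ∧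
      classInner (permC X (Φ.X d)) (χ : X → ℂ) ≠ 0 := by
  let _ := autAction I h1 h3 hall d
  have htr : ∀ x y : Φ.X d, ∃ s : S, (MulAut.conj s : MulAut S) • x = y := exists_conj I h1 h3 hall hd1 hdK
  have hne : Nonempty (Φ.X d) := by
    have h4 : 0 < Nat.card (Φ.X d) := CC.pos I.card Finite.one_lt_card (hdK.trans I.K_le)
    exact (Nat.card_pos_iff.1 h4).1
  obtain ⟨U0⟩ := hne
  have hn : ∀ U : Φ.X d, Nat.card {W : Φ.X d // Rel Φ d U W} = Nat.card {W : Φ.X d // Rel Φ d U0 W} := by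
    intro U
    obtain ⟨s, rfl⟩ := htr U0 U
    symm
    refine Nat.card_congr (Equiv.subtypeEquiv (MulAction.toPerm (MulAut.conj s : MulAut S)) fun W => ?_)
    exact (rel_smul I h1 h3 hall (MulAut.conj s) U0 W).symm
  have hpn := H556.CY.not_dvd_rel (Φ := Φ) hp2 hpq hd hd1 h2 hn
  have : Nonempty (Φ.X d) := ⟨U0⟩
  obtain ⟨Q⟩ : Nonempty (Sylow p S) := inferInstance
  refine exists_of_relX hMp hna X hX hpX htr (Rel Φ d) (fun a x y => rel_smul I h1 h3 hall a x y) hn hpn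
    ⟨Q, fun a ha x hx hR => ?_⟩
  obtain ⟨N, hN, hi⟩ := hall a
  have h4 : (a • x : Φ.X d).1 = hN.sub x.1 := autAction_semi I h1 h3 hall d a x hN hi
  refine H188.CY.polInst_no_rel I hpq hd hd1 Q ha hN hi x (fun g hg => ?_) ?_ ?_
  · exact (conj_smul I h1 h3 hall d g x).symm.trans (hx g hg)
  · rw [← h4]
    exact hR.1
  · rw [← h4]
    exact hR.2

end Cfsg.Agent.H104.CY
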