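import Cfsg.Agent.H125.PC.Crit
import Cfsg.Agent.H104.CY.Dec

/-!
# S4829: the count weighted by an orbital (helper104)

`exists_of_wt` : `G` acts transitively on `Ω`, `A : Ω → Ω → ℤ` is invariant with row sums `n`, and
`∑ ω, A ω (y • ω) ≡ c` modulo `p` for the `p`-regular `y ∈ C_G(P)`.  If `n` is not `≡ c` then some `χ ≠ 1` in the
principal block, of degree prime to `p`, is a constituent of the permutation character.

`exists_of_rel` : the case of a relation `R` with `¬ R ω (y • ω)` for the `P`-fixed `ω`.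
-/

set_option autoImplicit false
set_option linter.unusedSectionVars false

open Subgroup
open scoped ComplexConjugate

namespace Cfsg.Agent.H104.CY

open Cfsg
open Cfsg.Agent.Blocks.Blau Cfsg.Agent.Blocks.Local Cfsg.Agent.Characters Cfsg.Agent.H145.BR

universe u v

variable {p : ℕ} [hp : Fact p.Prime] {M : Ideal AlgInt} {G : Type u} [Group G] [Finite G]

/-- the `B0`-part and the sum over the `p`-regular elements, integral coefficients -/
theorem sum_sub_reg (hM : IsPModular p M) [Fintype G] [Fintype (IrrCharacter G)]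
    [DecidablePred (· ∈ principalBlock M G)] (Φ : G → ℂ)
    (k : IrrCharacter G → ℂ) (hk : ∀ χ, IsIntegral ℤ (k χ))
    (hΦ : ∀ g, Φ g = ∑ χ : IrrCharacter G, k χ * (χ : G → ℂ) g) :
    MemLocalIdeal M ((∑ χ : IrrCharacter G, if χ ∈ principalBlock M G then k χ * (charDegree (χ : G → ℂ) : ℂ) else 0) *
      (Nat.card {x : G // ¬ p ∣ orderOf x} : ℂ) - ∑ g : G, regPart p Φ g) := by
  classical
  have hMp : M.IsPrime := isPrime_of_isPModular hM
  have h1 : ∑ g : G, regPart p Φ g = ∑ χ : IrrCharacter G, k χ * ∑ g : G, regPart p (χ : G → ℂ) g := by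
    have h2 : ∀ g : G, regPart p Φ g = ∑ χ : IrrCharacter G, k χ * regPart p (χ : G → ℂ) g := by
      intro g
      by_cases hg : p ∣ orderOf g
      · rw [regPart_of_dvd hg, Finset.sum_eq_zero]
        intro i _
        rw [regPart_of_dvd hg, mul_zero]
      · rw [regPart_of_not_dvd hg, hΦ]
        refine Finset.sum_congr rfl fun i _ => ?_
        rw [regPart_of_not_dvd hg]
    rw [Finset.sum_congr rfl fun g _ => h2 g, Finset.sum_comm]
    exact Finset.sum_congr rfl fun χ _ => by rw [Finset.mul_sum]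
  have key : ∀ χ : IrrCharacter G, MemLocalIdeal M
      ((if χ ∈ principalBlock M G then k χ * (charDegree (χ : G → ℂ) : ℂ) else 0) *
        (Nat.card {x : G // ¬ p ∣ orderOf x} : ℂ) - k χ * ∑ g : G, regPart p (χ : G → ℂ) g) := by
    intro χ
    by_cases hχ : χ ∈ principalBlock M G
    · rw [if_pos hχ]
      have h2 := pair_div_sub_pair_div hM (H893.Sd.one G).2 χ.2 (Core.isIrr_isCharacter (H893.Sd.one G).2) hχ
      have h3 : pair p ((H893.Sd.one G : IrrCharacter G) : G → ℂ) ((H893.Sd.one G : IrrCharacter G) : G → ℂ) =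
        (Nat.card {x : G // ¬ p ∣ orderOf x} : ℂ) := H893.Sd.pair_one_one p
      have h4 : ((H893.Sd.one G : IrrCharacter G) : G → ℂ) 1 = 1 := rfl
      have h5 : pair p (χ : G → ℂ) ((H893.Sd.one G : IrrCharacter G) : G → ℂ) = ∑ g : G, regPart p (χ : G → ℂ) g :=
        H893.Sd.pair_one p _
      rw [h3, h4, h5, div_one] at h2
      have h6 : (χ : G → ℂ) 1 ≠ 0 := apply_one_ne_zero χ
      have hint : IsIntegral ℤ (k χ * (charDegree (χ : G → ℂ) : ℂ)) := (hk χ).mul (isIntegral_natCast (R := ℤ) _)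
      have h7 := memLocalIdeal_mul_left (Blocks.LocalRing.memLocalRing_of_isIntegral hM hint) h2
      have h8 : (k χ * (charDegree (χ : G → ℂ) : ℂ)) * ((Nat.card {x : G // ¬ p ∣ orderOf x} : ℂ) -
          (∑ g : G, regPart p (χ : G → ℂ) g) / (χ : G → ℂ) 1) =
          (k χ * (charDegree (χ : G → ℂ) : ℂ)) * (Nat.card {x : G // ¬ p ∣ orderOf x} : ℂ) -
            k χ * ∑ g : G, regPart p (χ : G → ℂ) g := by
        rw [charDegree_cast'] at h6 ⊢
        field_simp
      rw [h8] at h7
      exact h7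
    · rw [if_neg hχ, zero_mul, zero_sub]
      have h2 : ∑ g : G, regPart p (χ : G → ℂ) g = 0 := by
        by_contra h3
        exact hχ ((H893.Sd.mem_iff hM χ).2 h3)
      rw [h2, mul_zero, neg_zero]
      exact memLocalIdeal_zero
  have h2 := memLocalIdeal_sum (M := M) (s := Finset.univ) fun χ _ => key χ
  rw [Finset.sum_sub_distrib, ← h1, ← Finset.sum_mul] at h2
  exact h2

/-- a class function with algebraic integer values, summed over the `p`-regular elements: only `C_G(P)` matters -/
theorem reg_sub_cent (hM : IsPModular p M) [Fintype G] (P : Sylow p G) {Φ : G → ℂ} (hcl : IsClassFunction G Φ)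
    (hint : ∀ g, IsIntegral ℤ (Φ g)) :
    MemLocalIdeal M ((∑ g : G, regPart p Φ g) -
      ∑ g : G, @ite ℂ (g ∈ centralizer ((P : Subgroup G) : Set G)) (Classical.dec _) (regPart p Φ g) 0) := by
  classical
  have hMp : M.IsPrime := isPrime_of_isPModular hM
  let _ : MulAction (P : Subgroup G) G := MulAction.compHom G ((MulAut.conj : G →* MulAut G).comp (P : Subgroup G).subtype)
  have hsm : ∀ (u : (P : Subgroup G)) (x : G), u • x = (u : G) * x * (u : G)⁻¹ := fun _ _ => rfl
  have h1 := H687.sum_fixed (Γ := (P : Subgroup G)) (X := G) P.2 (regPart p Φ) (by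
    intro u x
    rw [hsm]
    have ho : orderOf ((u : G) * x * (u : G)⁻¹) = orderOf x := orderOf_conj'' _ _
    by_cases hx : p ∣ orderOf x
    · rw [regPart_of_dvd hx, regPart_of_dvd (ho.symm ▸ hx)]
    · rw [regPart_of_not_dvd hx, regPart_of_not_dvd (ho.symm ▸ hx)]
      exact hcl x u) (by
    intro x
    by_cases hx : p ∣ orderOf x
    · rw [regPart_of_dvd hx]
      exact isIntegral_zero
    · rw [regPart_of_not_dvd hx]
      exact hint x)
  obtain ⟨z, hz, h2⟩ := h1
  have h3 : ∀ x : G, (x ∈ MulAction.fixedPoints (P : Subgroup G) G) ↔ x ∈ centralizer ((P : Subgroup G) : Set G) := by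
    intro x
    rw [MulAction.mem_fixedPoints, mem_centralizer_iff]
    constructor
    · intro h g hg
      have := h ⟨g, hg⟩
      rw [hsm] at this
      exact mul_inv_eq_iff_eq_mul.1 this
    · intro h u
      rw [hsm]
      exact mul_inv_eq_iff_eq_mul.2 (h u u.2)
  rw [h2]
  have h4 : (∑ x : G, if x ∈ MulAction.fixedPoints (P : Subgroup G) G then regPart p Φ x else 0) =
      ∑ g : G, @ite ℂ (g ∈ centralizer ((P : Subgroup G) : Set G)) (Classical.dec _) (regPart p Φ g) 0 := by
    refine Finset.sum_congr rfl fun x _ => ?_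
    by_cases hx : x ∈ centralizer ((P : Subgroup G) : Set G)
    · rw [if_pos ((h3 x).2 hx), if_pos hx]
    · rw [if_neg (fun h => hx ((h3 x).1 h)), if_neg hx]
  rw [h4, add_sub_cancel_left]
  exact Blocks.LocalRing.memLocalIdeal_mul_right hM
    ((Blocks.LocalRing.memLocalIdeal_natCast_iff hM p).2 dvd_rfl)
    (Blocks.LocalRing.memLocalRing_of_isIntegral hM hz)

/-- **the `B0`-part of a class function which is `≡ c` on the `p`-regular elements of `C_G(P)`** -/
theorem b0_part (hM : IsPModular p M) [Fintype G] [Fintype (IrrCharacter G)]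
    [DecidablePred (· ∈ principalBlock M G)] (P : Sylow p G) {Ψ : G → ℂ} (hcl : IsClassFunction G Ψ)
    (hint : ∀ g, IsIntegral ℤ (Ψ g)) (k : IrrCharacter G → ℂ) (hk : ∀ χ, IsIntegral ℤ (k χ))
    (hΨ : ∀ g, Ψ g = ∑ χ : IrrCharacter G, k χ * (χ : G → ℂ) g) {c : ℤ}
    (hv : ∀ y ∈ centralizer ((P : Subgroup G) : Set G), ¬ p ∣ orderOf y → MemLocalIdeal M ((c : ℂ) - Ψ y)) :
    MemLocalIdeal M (((c : ℂ) -
      ∑ χ : IrrCharacter G, if χ ∈ principalBlock M G then k χ * (charDegree (χ : G → ℂ) : ℂ) else 0) *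
      (Nat.card {x : G // ¬ p ∣ orderOf x} : ℂ)) := by
  classical
  have hMp : M.IsPrime := isPrime_of_isPModular hM
  have h1 := sum_sub_reg hM Ψ k hk hΨ
  have h2 := reg_sub_cent hM P hcl hint
  have h3 := Cfsg.Agent.H125.PC.card_reg_cent hM P
  have h4 : MemLocalIdeal M ((∑ g : G, @ite ℂ (g ∈ centralizer ((P : Subgroup G) : Set G)) (Classical.dec _)
        ((c : ℂ) * regPart p (fun _ : G => (1 : ℂ)) g) 0) -
      ∑ g : G, @ite ℂ (g ∈ centralizer ((P : Subgroup G) : Set G)) (Classical.dec _) (regPart p Ψ g) 0) := by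
    rw [← Finset.sum_sub_distrib]
    refine memLocalIdeal_sum (s := Finset.univ) fun g _ => ?_
    by_cases hg : g ∈ centralizer ((P : Subgroup G) : Set G)
    · rw [if_pos hg, if_pos hg]
      by_cases hg' : p ∣ orderOf g
      · rw [regPart_of_dvd hg', regPart_of_dvd hg', mul_zero, sub_zero]
        exact memLocalIdeal_zero
      · rw [regPart_of_not_dvd hg', regPart_of_not_dvd hg', mul_one]
        exact hv g hg hg'
    · rw [if_neg hg, if_neg hg, sub_zero]
      exact memLocalIdeal_zero
  have h5 : (∑ g : G, @ite ℂ (g ∈ centralizer ((P : Subgroup G) : Set G)) (Classical.dec _)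
        ((c : ℂ) * regPart p (fun _ : G => (1 : ℂ)) g) 0) =
      (c : ℂ) * ∑ g : G, @ite ℂ (g ∈ centralizer ((P : Subgroup G) : Set G)) (Classical.dec _)
        (regPart p (fun _ : G => (1 : ℂ)) g) 0 := by
    rw [Finset.mul_sum]
    refine Finset.sum_congr rfl fun g _ => ?_
    split_ifs <;> simp
  rw [h5] at h4
  have h6 := memLocalIdeal_mul_left (memLocalRing_intCast (M := M) c) h3
  have h7 := memLocalIdeal_sub (memLocalIdeal_add h6 h4) (memLocalIdeal_add h1 h2)
  refine cast (congrArg (MemLocalIdeal M) ?_) h7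
  ring

/-- an integral number times an integer prime to `p` -/
theorem memLocalIdeal_of_mul (hM : IsPModular p M) {z : ℂ} (hz : IsIntegral ℤ z) {m : ℕ} (hm : ¬ p ∣ m)
    (h : MemLocalIdeal M (z * (m : ℂ))) : MemLocalIdeal M z := by
  have hMp : M.IsPrime := isPrime_of_isPModular hM
  have h1 : IsCoprime (m : ℤ) (p : ℤ) :=
    Int.isCoprime_iff_gcd_eq_one.2 (by
      rw [Int.gcd_natCast_natCast]
      exact (Nat.Prime.coprime_iff_not_dvd hp.out).2 hm |>.symm)
  obtain ⟨a, b, hab⟩ := h1
  have h2 : z = (a : ℂ) * (z * (m : ℂ)) + (p : ℂ) * ((b : ℂ) * z) := by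
    have h3 : ((a * m + b * p : ℤ) : ℂ) = 1 := by rw [hab, Int.cast_one]
    push_cast at h3
    linear_combination (-z) * h3
  rw [h2]
  refine memLocalIdeal_add (memLocalIdeal_mul_left (memLocalRing_intCast (M := M) a) h) ?_
  refine Blocks.LocalRing.memLocalIdeal_mul_right hM ((Blocks.LocalRing.memLocalIdeal_natCast_iff hM p).2 dvd_rfl)
    (Blocks.LocalRing.memLocalRing_of_isIntegral hM ?_)
  exact (isIntegral_algebraMap (R := ℤ) (A := ℂ) (x := b)).mul hz

section Wt

variable {Ω : Type v} [Fintype Ω] [MulAction G Ω]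

/-- the multiplicity of the trivial character -/
theorem sum_wtC [Fintype G] [Nonempty Ω] [MulAction.IsPretransitive G Ω] {A : Ω → Ω → ℤ} {n : ℤ}
    (hn : ∀ x, ∑ y, A x y = n) : ∑ g : G, ∑ x, A x (g • x) = Fintype.card G * n := by
  classical
  have h1 : ∀ x : Ω, (Fintype.card Ω : ℤ) * ∑ g : G, A x (g • x) = Fintype.card G * n := by
    intro x
    have h2 : ∀ y z : Ω, ∑ g : G, A x (g • y) = ∑ g : G, A x (g • z) := by
      intro y z
      obtain ⟨h, rfl⟩ := MulAction.exists_smul_eq G z y
      rw [← Equiv.sum_comp (Equiv.mulRight h) (fun g => A x (g • z))]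
      exact Finset.sum_congr rfl fun g _ => by rw [Equiv.coe_mulRight, mul_smul]
    have h3 : ∑ y, ∑ g : G, A x (g • y) = Fintype.card G * n := by
      rw [Finset.sum_comm]
      have h4 : ∀ g : G, ∑ y, A x (g • y) = n := by
        intro g
        rw [← hn x]
        exact Equiv.sum_comp (MulAction.toPerm g) (fun y => A x y)
      rw [Finset.sum_congr rfl fun g _ => h4 g, Finset.sum_const, Finset.card_univ, nsmul_eq_mul]
    rw [← h3, Finset.sum_congr rfl fun y _ => h2 y x, Finset.sum_const, Finset.card_univ, nsmul_eq_mul]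
  have h0 : (Fintype.card Ω : ℤ) ≠ 0 := by exact_mod_cast Fintype.card_ne_zero
  apply mul_left_cancel₀ h0
  rw [Finset.sum_comm, Finset.mul_sum, Finset.sum_congr rfl fun x _ => h1 x, Finset.sum_const, Finset.card_univ,
    nsmul_eq_mul]

/-- **the weighted count** -/
theorem exists_of_wt (hM : IsPModular p M) (P : Sylow p G) [Nonempty Ω] [MulAction.IsPretransitive G Ω]
    {A : Ω → Ω → ℤ} (hA : ∀ (g : G) x y, A (g • x) (g • y) = A x y) {n c : ℤ} (hn : ∀ x, ∑ y, A x y = n)
    (hc : ∀ y ∈ centralizer ((P : Subgroup G) : Set G), ¬ p ∣ orderOf y → ∑ x, A x (y • x) ≡ c [ZMOD p])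
    (hne : ¬ n ≡ c [ZMOD p]) [Fintype G] :
    ∃ χ : IrrCharacter G, χ ∈ principalBlock M G ∧ (χ : G → ℂ) ≠ (fun _ => 1) ∧ ¬ p ∣ charDegree (χ : G → ℂ) ∧
      classInner (permC G Ω) (χ : G → ℂ) ≠ 0 := by
  classical
  have hMp : M.IsPrime := isPrime_of_isPModular hM
  have : Finite (IrrCharacter G) := Core.finite_irr
  have := Fintype.ofFinite (IrrCharacter G)
  obtain ⟨s, ψ, hs, hψ, h1, h2⟩ := exists_dec (G := G) hA
  have hnat : ∀ (μ : ℂ) (χ : IrrCharacter G), ∃ m : ℕ, classInner (ψ μ) (χ : G → ℂ) = m := fun μ χ =>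
    Core.classInner_isNat (hψ μ) (Core.isIrr_isCharacter χ.2)
  choose m hm using hnat
  have hψm : ∀ (μ : ℂ) (g : G), ψ μ g = ∑ χ : IrrCharacter G, (m μ χ : ℂ) * (χ : G → ℂ) g := by
    intro μ g
    have h3 := congrFun (Core.classFunction_eq_sum (Core.isCharacter_isClassFunction (hψ μ))) g
    rw [Finset.sum_apply] at h3
    refine h3.trans (Finset.sum_congr rfl fun χ _ => ?_)
    rw [Pi.smul_apply, hm, smul_eq_mul]
  set k : IrrCharacter G → ℂ := fun χ => ∑ μ ∈ s, μ * (m μ χ : ℂ) with hk
  have hki : ∀ χ, IsIntegral ℤ (k χ) := fun χ =>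
    IsIntegral.sum _ fun μ hμ => (hs μ hμ).mul (isIntegral_natCast (R := ℤ) _)
  have hsum : ∀ g, wtC A g = ∑ χ : IrrCharacter G, k χ * (χ : G → ℂ) g := by
    intro g
    rw [h1]
    have h3 : ∀ χ : IrrCharacter G, k χ * (χ : G → ℂ) g = ∑ μ ∈ s, μ * ((m μ χ : ℂ) * (χ : G → ℂ) g) := by
      intro χ
      rw [hk, Finset.sum_mul]
      exact Finset.sum_congr rfl fun μ _ => by rw [mul_assoc]
    rw [Finset.sum_congr rfl fun χ _ => h3 χ, Finset.sum_comm]
    refine Finset.sum_congr rfl fun μ _ => ?_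
    rw [hψm, Finset.mul_sum]
  have hcl : IsClassFunction G (wtC A) := by
    intro x g
    rw [wtC, wtC]
    congr 1
    rw [← Equiv.sum_comp (MulAction.toPerm g)]
    refine Finset.sum_congr rfl fun ω _ => ?_
    rw [MulAction.toPerm_apply, ← mul_smul, inv_mul_cancel_right, mul_smul, hA]
  have hint : ∀ g : G, IsIntegral ℤ (wtC A g) := fun g => isIntegral_algebraMap (R := ℤ) (A := ℂ)
  have hB := b0_part hM P hcl hint k hki hsum (c := c) (by
    intro y hy hy'
    rw [wtC, ← Int.cast_sub, memLocalIdeal_intCast_iff hM]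
    exact (hc y hy hy').dvd)
  have hcard : ¬ p ∣ Nat.card {x : G // ¬ p ∣ orderOf x} := Cfsg.Agent.Blocks.RegularCount.not_dvd_card_regular
  have hBi : IsIntegral ℤ ((c : ℂ) -
      ∑ χ : IrrCharacter G, if χ ∈ principalBlock M G then k χ * (charDegree (χ : G → ℂ) : ℂ) else 0) := by
    refine (isIntegral_algebraMap (R := ℤ) (A := ℂ) (x := c)).sub (IsIntegral.sum _ fun χ _ => ?_)
    split_ifs
    · exact (hki χ).mul (isIntegral_natCast (R := ℤ) _)
    · exact isIntegral_zero
  have hB' := memLocalIdeal_of_mul hM hBi hcard hB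
  -- the trivial character
  have hk1 : k (H893.Sd.one G) = n := by
    have h3 : classInner (wtC A) ((H893.Sd.one G : IrrCharacter G) : G → ℂ) = k (H893.Sd.one G) := by
      have h4 : wtC A = ∑ χ : IrrCharacter G, k χ • (χ : G → ℂ) := by
        funext g
        rw [hsum, Finset.sum_apply]
        rfl
      rw [h4, Core.classInner_sum_left, Finset.sum_eq_single (H893.Sd.one G)]
      · rw [Core.classInner_smul_left, Core.classInner_irr_self (H893.Sd.one G).2, mul_one]
      · intro χ _ hχ
        rw [Core.classInner_smul_left, Core.classInner_irr_ne χ.2 (H893.Sd.one G).2 (fun h => hχ (Subtype.ext h)),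
          mul_zero]
      · intro h
        exact absurd (Finset.mem_univ _) h
    rw [← h3, Core.classInner_def]
    have h5 : ∑ g : G, wtC A g * conj (((H893.Sd.one G : IrrCharacter G) : G → ℂ) g) =
        ((∑ g : G, ∑ x, A x (g • x) : ℤ) : ℂ) := by
      rw [Int.cast_sum]
      refine Finset.sum_congr rfl fun g _ => ?_
      have h6 : ((H893.Sd.one G : IrrCharacter G) : G → ℂ) g = 1 := rfl
      rw [h6, map_one, mul_one]
      rfl
    rw [h5, sum_wtC hn, Nat.card_eq_fintype_card]
    push_cast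
    rw [inv_mul_cancel_left₀]
    exact_mod_cast Fintype.card_ne_zero
  by_contra hcon
  push Not at hcon
  apply hne
  have h9 : MemLocalIdeal M ((c : ℂ) - (n : ℂ)) := by
    have h10 : ∀ χ : IrrCharacter G, χ ≠ H893.Sd.one G → MemLocalIdeal M
        (if χ ∈ principalBlock M G then k χ * (charDegree (χ : G → ℂ) : ℂ) else 0) := by
      intro χ hχ
      by_cases hB : χ ∈ principalBlock M G
      · rw [if_pos hB]
        by_cases hd : p ∣ charDegree (χ : G → ℂ)
        · exact memLocalIdeal_mul_left (Blocks.LocalRing.memLocalRing_of_isIntegral hM (hki χ))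
            ((Blocks.LocalRing.memLocalIdeal_natCast_iff hM _).2 hd)
        · have h11 := hcon χ hB (fun h => hχ (Subtype.ext h)) hd
          have h12 : classInner (permC G Ω) (χ : G → ℂ) = ((∑ μ ∈ s, m μ χ : ℕ) : ℂ) := by
            have h13 : permC G Ω = ∑ μ ∈ s, (1 : ℂ) • ψ μ := by
              funext g
              rw [Finset.sum_apply]
              refine (h2 g).trans (Finset.sum_congr rfl fun μ _ => ?_)
              rw [one_smul]
            rw [h13, Core.classInner_sum_left, Nat.cast_sum]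
            refine Finset.sum_congr rfl fun μ _ => ?_
            rw [one_smul, hm]
          rw [h12] at h11
          have h14 : ∑ μ ∈ s, m μ χ = 0 := by exact_mod_cast h11
          have h15 : k χ = 0 := by
            rw [hk]
            refine Finset.sum_eq_zero fun μ hμ => ?_
            rw [Finset.sum_eq_zero_iff.1 h14 μ hμ, Nat.cast_zero, mul_zero]
          rw [h15, zero_mul]
          exact memLocalIdeal_zero
      · rw [if_neg hB]
        exact memLocalIdeal_zero
    have h11 : (∑ χ : IrrCharacter G, if χ ∈ principalBlock M G then k χ * (charDegree (χ : G → ℂ) : ℂ) else 0) =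
        (n : ℂ) + ∑ χ ∈ Finset.univ.erase (H893.Sd.one G),
          (if χ ∈ principalBlock M G then k χ * (charDegree (χ : G → ℂ) : ℂ) else 0) := by
      rw [← Finset.add_sum_erase Finset.univ _ (Finset.mem_univ (H893.Sd.one G))]
      congr 1
      have hmem : H893.Sd.one G ∈ principalBlock M G := Cfsg.Agent.Blocks.Basic.sameBlock_refl _
      have hdeg : charDegree ((H893.Sd.one G : IrrCharacter G) : G → ℂ) = 1 := by
        have := charDegree_cast' (H893.Sd.one G)
        have h10 : ((H893.Sd.one G : IrrCharacter G) : G → ℂ) 1 = 1 := rfl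
        rw [h10] at this
        exact_mod_cast this.symm
      rw [if_pos hmem, hk1, hdeg, Nat.cast_one, mul_one]
    rw [h11] at hB'
    have h12 : MemLocalIdeal M (∑ χ ∈ Finset.univ.erase (H893.Sd.one G),
          (if χ ∈ principalBlock M G then k χ * (charDegree (χ : G → ℂ) : ℂ) else 0)) :=
      memLocalIdeal_sum fun χ hχ => h10 χ (Finset.ne_of_mem_erase hχ)
    have h13 := memLocalIdeal_add hB' h12
    refine cast (congrArg (MemLocalIdeal M) ?_) h13
    ring
  rw [← Int.cast_sub, memLocalIdeal_intCast_iff hM] at h9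
  exact Int.modEq_iff_dvd.2 h9

end Wt

end Cfsg.Agent.H104.CY
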