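import Cfsg.Agent.H104.CY.Rel

/-!
# S4829: the count weighted by a relation (helper104)

`exists_of_rel` : `G` acts transitively on `Ω`, `R` is an invariant relation of valency `n` prime to `p`, and
`¬ R x (y • x)` for `x` fixed by the Sylow subgroup `P` and `y ∈ C_G(P)` `p`-regular: some `χ ≠ 1` in the principal block,
of degree prime to `p`, is a constituent of the permutation character.
-/

set_option autoImplicit false
set_option linter.unusedSectionVars false

open Subgroup

namespace Cfsg.Agent.H104.CY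

open Cfsg
open Cfsg.Agent.H145.BR

universe u v

variable {p : ℕ} [hp : Fact p.Prime] {M : Ideal AlgInt} {G : Type u} [Group G] [Finite G] {Ω : Type v} [Finite Ω]
  [MulAction G Ω]

theorem dvd_card_rel (P : Sylow p G) (R : Ω → Ω → Prop) (hR : ∀ (g : G) x y, R (g • x) (g • y) ↔ R x y) {y : G}
    (hy : y ∈ centralizer ((P : Subgroup G) : Set G))
    (h0 : ∀ x, (∀ g ∈ (P : Subgroup G), g • x = x) → ¬ R x (y • x)) : p ∣ Nat.card {x : Ω // R x (y • x)} := by
  classical
  have hsm : ∀ (g : (P : Subgroup G)) (x : {x : Ω // R x (y • x)}), R ((g : G) • x.1) (y • ((g : G) • x.1)) := by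
    intro g x
    rw [← mul_smul, ← mem_centralizer_iff.1 hy g g.2, mul_smul, hR]
    exact x.2
  let _ : MulAction (P : Subgroup G) {x : Ω // R x (y • x)} :=
    { smul := fun g x => ⟨(g : G) • x.1, hsm g x⟩
      one_smul := fun x => Subtype.ext (one_smul G x.1)
      mul_smul := fun g h x => Subtype.ext (mul_smul (g : G) (h : G) x.1) }
  have h1 := IsPGroup.card_modEq_card_fixedPoints P.2 {x : Ω // R x (y • x)}
  have h2 : IsEmpty (MulAction.fixedPoints (P : Subgroup G) {x : Ω // R x (y • x)}) := by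
    refine ⟨fun x => h0 x.1.1 (fun g hg => ?_) x.1.2⟩
    exact congrArg Subtype.val (x.2 ⟨g, hg⟩)
  rw [Nat.card_of_isEmpty (α := MulAction.fixedPoints (P : Subgroup G) {x : Ω // R x (y • x)})] at h1
  exact (Nat.modEq_zero_iff_dvd).1 h1

/-- **the count weighted by a relation** -/
theorem exists_of_rel (hM : IsPModular p M) (P : Sylow p G) [Nonempty Ω] [MulAction.IsPretransitive G Ω]
    (R : Ω → Ω → Prop) (hR : ∀ (g : G) x y, R (g • x) (g • y) ↔ R x y) {n : ℕ}
    (hn : ∀ x, Nat.card {y : Ω // R x y} = n) (hpn : ¬ p ∣ n)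
    (h0 : ∀ y ∈ centralizer ((P : Subgroup G) : Set G), ¬ p ∣ orderOf y →
      ∀ x, (∀ g ∈ (P : Subgroup G), g • x = x) → ¬ R x (y • x)) [Fintype G] :
    ∃ χ : IrrCharacter G, χ ∈ principalBlock M G ∧ (χ : G → ℂ) ≠ (fun _ => 1) ∧ ¬ p ∣ charDegree (χ : G → ℂ) ∧
      classInner (permC G Ω) (χ : G → ℂ) ≠ 0 := by
  classical
  have := Fintype.ofFinite Ω
  have hsum : ∀ f : Ω → Prop, ∑ x, (if f x then (1 : ℤ) else 0) = Nat.card {x : Ω // f x} := by
    intro f
    rw [Finset.sum_boole, Nat.card_eq_fintype_card, Fintype.card_subtype]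
  refine exists_of_wt hM P (A := fun x y => if R x y then (1 : ℤ) else 0) (fun g x y => ?_) (n := n) (c := 0)
    (fun x => ?_) (fun y hy hy' => ?_) ?_
  · simp only [hR]
  · rw [hsum, hn]
  · rw [hsum]
    exact (Int.modEq_zero_iff_dvd).2 (Int.natCast_dvd_natCast.2 (dvd_card_rel P R hR hy (h0 y hy hy')))
  · rw [Int.modEq_zero_iff_dvd, Int.natCast_dvd_natCast]
    exact hpn

end Cfsg.Agent.H104.CY
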