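import Cfsg.Agent.H104.CY.RelR
import Cfsg.Agent.H646.BR.CntGen
import Cfsg.Agent.H770.CY.Defs

/-!
# S4829: the count weighted by a relation, for a group `X` of automorphisms of the simple group `S` (helper104)
-/

set_option autoImplicit false
set_option linter.unusedSectionVars false

open Subgroup

namespace Cfsg.Agent.H104.CY

open Cfsg
open Cfsg.Agent.H145.BR

universe u v

variable {p : ℕ} [hp : Fact p.Prime] {M : Ideal AlgInt} {S : Type u} [Group S]

theorem conj_inj [IsSimpleGroup S] (hna : ¬ IsMulCommutative S) : Function.Injective (MulAut.conj : S →* MulAut S) := by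
  rw [injective_iff_map_eq_one]
  intro x hx
  have h1 : x ∈ center S := by
    rw [mem_center_iff]
    intro g
    have h2 := DFunLike.congr_fun hx g
    rw [MulAut.conj_apply, MulAut.one_apply] at h2
    exact (mul_inv_eq_iff_eq_mul.1 h2).symm
  rcases (inferInstance : (center S).Normal).eq_bot_or_eq_top with h | h
  · rwa [h, mem_bot] at h1
  · exfalso
    apply hna
    refine ⟨⟨fun a b => ?_⟩⟩
    have h2 : b ∈ center S := h ▸ mem_top b
    exact mem_center_iff.1 h2 a

/-- the Sylow subgroups of `X` and the elements centralizing them -/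
theorem exists_sylow [Finite S] [IsSimpleGroup S] (hna : ¬ IsMulCommutative S) (X : Subgroup (MulAut S))
    (hX : ∀ s : S, MulAut.conj s ∈ X) (hpX : ¬ p ∣ (MulAut.conj : S →* MulAut S).range.relIndex X) (Q : Sylow p S) :
    ∃ P : Sylow p X, (∀ q ∈ Q, (⟨MulAut.conj q, hX q⟩ : X) ∈ (P : Subgroup X)) ∧
      ∀ y ∈ centralizer ((P : Subgroup X) : Set X), ∀ q ∈ Q, (y : MulAut S) q = q := by
  have hinj := conj_inj (S := S) hna
  set j : S →* X := (MulAut.conj : S →* MulAut S).codRestrict X hX with hj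
  have hjinj : Function.Injective j := fun a b h => hinj (congrArg Subtype.val h)
  have hidx : ¬ p ∣ j.range.index := by
    have h1 : j.range = (MulAut.conj : S →* MulAut S).range.subgroupOf X := by
      ext x
      rw [mem_subgroupOf]
      constructor
      · rintro ⟨s, rfl⟩
        exact ⟨s, rfl⟩
      · rintro ⟨s, hs⟩
        exact ⟨s, Subtype.ext hs⟩
    rw [h1]
    exact hpX
  obtain ⟨P, hP⟩ := H646.BR.exists_sylow_map j hjinj hidx Q
  have hmem : ∀ q ∈ Q, (⟨MulAut.conj q, hX q⟩ : X) ∈ (P : Subgroup X) := by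
    intro q hq
    rw [hP]
    exact ⟨q, hq, rfl⟩
  refine ⟨P, hmem, fun y hy q hq => ?_⟩
  have h1 := congrArg Subtype.val (mem_centralizer_iff.1 hy _ (hmem q hq))
  have h2 : MulAut.conj q * (y : MulAut S) = (y : MulAut S) * MulAut.conj q := h1
  apply hinj
  have h3 : MulAut.conj ((y : MulAut S) q) = (y : MulAut S) * MulAut.conj q * (y : MulAut S)⁻¹ := by
    ext x
    rw [MulAut.mul_apply, MulAut.mul_apply, MulAut.conj_apply, MulAut.conj_apply, map_mul, map_mul, map_inv,
      MulAut.apply_inv_self]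
  rw [h3, ← h2, mul_inv_cancel_right]

/-- **the weighted count for `X`** -/
theorem exists_of_relX (hM : IsPModular p M) [Finite S] [IsSimpleGroup S] (hna : ¬ IsMulCommutative S)
    (X : Subgroup (MulAut S)) (hX : ∀ s : S, MulAut.conj s ∈ X)
    (hpX : ¬ p ∣ (MulAut.conj : S →* MulAut S).range.relIndex X) {Ω : Type v} [Finite Ω] [Nonempty Ω]
    [MulAction (MulAut S) Ω] (htr : ∀ x y : Ω, ∃ s : S, MulAut.conj s • x = y) (R : Ω → Ω → Prop)
    (hR : ∀ (a : MulAut S) x y, R (a • x) (a • y) ↔ R x y) {n : ℕ} (hn : ∀ x, Nat.card {y : Ω // R x y} = n)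
    (hpn : ¬ p ∣ n)
    (h0 : ∃ Q : Sylow p S, ∀ a : MulAut S, (∀ x ∈ Q, a x = x) → ∀ x : Ω, (∀ g ∈ Q, MulAut.conj g • x = x) →
      ¬ R x (a • x)) [Fintype X] :
    ∃ χ : IrrCharacter X, χ ∈ principalBlock M X ∧ (χ : X → ℂ) ≠ (fun _ => 1) ∧ ¬ p ∣ charDegree (χ : X → ℂ) ∧
      classInner (permC X Ω) (χ : X → ℂ) ≠ 0 := by
  obtain ⟨Q, hQ⟩ := h0
  obtain ⟨P, hP1, hP2⟩ := exists_sylow hna X hX hpX Q
  have : MulAction.IsPretransitive X Ω := ⟨fun x y => by
    obtain ⟨s, hs⟩ := htr x y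
    exact ⟨⟨MulAut.conj s, hX s⟩, hs⟩⟩
  refine exists_of_rel hM P R (fun g x y => hR g x y) hn hpn (fun y hy _ x hx => ?_)
  exact hQ y (hP2 y hy) x (fun g hg => hx _ (hP1 g hg))

end Cfsg.Agent.H104.CY
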