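import Cfsg.Agent.H104.CY.PolRel
import Cfsg.Agent.H598.CY.Orb

/-!
# S4829: the rows from the weighted count (helper104)

* `rowA_of_rel` : `MulAut S` acts on `Ω`, `S` transitive, the orbitals of `S` are preserved, the constituents are `Cyc`,
  and `R` is an invariant relation of valency prime to `p` with `¬ R x (a • x)` for `x` fixed by the Sylow subgroup `Q` and
  `a` centralizing `Q`;
* `rowA_rel` : polar spaces, `d` = order of `|F|` modulo `p` (`d = 1` allowed), `d ≤ K`, `p` prime to the number of totally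
  singular `2 d`-spaces.
-/

set_option autoImplicit false
set_option linter.unusedSectionVars false

open Module Subgroup Cfsg
open Cfsg.Agent.H2.Pol Cfsg.Agent.H674.BR Cfsg.Agent.H646.BR Cfsg.Agent.H145.BR Cfsg.Agent.H623.BR
open Cfsg.Agent.H31.BR Cfsg.Agent.H770.CY Cfsg.Agent.H221.CY

namespace Cfsg.Agent.H104.CY

universe u v

variable {p : ℕ} [hp : Fact p.Prime] {S : Type u} [Group S]

/-- **the row from a relation** -/
theorem rowA_of_rel [Fintype S] [IsSimpleGroup S] (hna : ¬ IsMulCommutative S) {Ω : Type v} [Finite Ω] [Nonempty Ω]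
    [MulAction (MulAut S) Ω] (htr : ∀ x y : Ω, ∃ s : S, MulAut.conj s • x = y)
    (horb : ∀ (a : MulAut S) (x y : Ω), ∃ s : S, MulAut.conj s • x = a • x ∧ MulAut.conj s • y = a • y)
    (hcyc : ∀ θ : IrrCharacter S, classInner (fun s : S => permC (MulAut S) Ω (MulAut.conj s)) (θ : S → ℂ) ≠ 0 →
      Cyc p (θ : S → ℂ))
    (R : Ω → Ω → Prop) (hR : ∀ (a : MulAut S) x y, R (a • x) (a • y) ↔ R x y) {n : ℕ}
    (hn : ∀ x, Nat.card {y : Ω // R x y} = n) (hpn : ¬ p ∣ n)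
    (h0 : ∃ Q : Sylow p S, ∀ a : MulAut S, (∀ x ∈ Q, a x = x) → ∀ x : Ω, (∀ g ∈ Q, MulAut.conj g • x = x) →
      ¬ R x (a • x)) : RowA p S := by
  intro A hA M hM
  obtain ⟨X, hXA, hSX, hn', hpX, k, hk⟩ := hA.2
  have := Fintype.ofFinite X
  obtain ⟨ψ, h1, h2, h3, h4⟩ := exists_of_relX hM hna X hSX hpX htr R hR hn hpn h0
  exact H598.CY.wit_of_const hna hM hA.1 X hXA hSX hn' hpX hk (fun _ _ => rfl) (fun a x y => horb a x y) hcyc ψ h1 h2 h3 h4

variable {F V : Type*} {G H : Type*} [Field F] [Fintype F] [AddCommGroup V]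
  [Module F V] [FiniteDimensional F V] [Group G] [Group H] {Φ : Pol F V} {ρ : G →* (V ≃ₗ[F] V)} {ι : H →* G}
  {ρ' : H →* (V ≃ₗ[F] V)} {π : H →* S} {w ε K : ℕ}

/-- **polar spaces, linear type, `d = 1` included** -/
theorem rowA_rel [Fintype S] [IsSimpleGroup S] (hna : ¬ IsMulCommutative S) [Finite G]
    (I : PolInst p Φ ρ ι ρ' π w ε K) (hw : 2 ≤ w)
    (hall : ∀ a : MulAut S, ∃ M : V ≃+ V, SemiAct Φ M ∧ Induces ρ' π M a)
    (hp2 : p ≠ 2) (hpq : ¬ p ∣ Nat.card F) {d : ℕ} (hd : orderOf ((Nat.card F : ℕ) : ZMod p) = d) (hd1 : 1 ≤ d)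
    (hdK : d ≤ K) (h2 : ¬ p ∣ Nat.card (Φ.X (2 * d))) : RowA p S := by
  have h1 : 1 ≤ K := hd1.trans hdK
  have h3 := three_le I hw
  let _ := autAction I h1 h3 hall d
  intro A hA M hM
  obtain ⟨X, hXA, hSX, hn', hpX, k, hk⟩ := hA.2
  have := Fintype.ofFinite X
  obtain ⟨ψ, h4, h5, h6, h7⟩ := exists_polRel hM hna I h1 h3 hall hp2 hpq hd hd1 hdK h2 X hSX hpX
  have hne : Nonempty (Φ.X d) := by
    have h4 : 0 < Nat.card (Φ.X d) := CC.pos I.card Finite.one_lt_card (hdK.trans I.K_le)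
    exact (Nat.card_pos_iff.1 h4).1
  refine H598.CY.wit_of_const hna hM hA.1 X hXA hSX hn' hpX hk (fun _ _ => rfl)
    (fun a x y => exists_orbital I h1 h3 hall hd1 hdK a x y) (fun θ hθ => ?_) ψ h4 h5 h6 h7
  refine cyc_constituent I hdK θ ?_
  have h8 : (fun s : S => permC (MulAut S) (Φ.X d) (MulAut.conj s)) =
      (letI := I.model.mulAction d; permC S (Φ.X d)) := by
    funext s
    exact permC_conj I h1 h3 hall d s
  rw [← h8]
  exact hθ

end Cfsg.Agent.H104.CY
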